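import Mathlib

/-!
# Gonflement of a discrete valuation ring by an algebraic residue extension
-/

set_option autoImplicit false
set_option maxHeartbeats 1000000
set_option synthInstance.maxHeartbeats 200000

universe u

open Polynomial IsLocalRing

namespace Groth.Agent.Gonfl7

variable {R : Type u} [CommRing R] [IsDomain R] {Ω : Type u} [Field Ω] [Algebra R Ω] [FaithfulSMul R Ω]
  {k' : Type u} [Field k'] [Algebra R k'] {π : R}

/-- A subring in which every nonzero element is a power of `π` times a unit, with a map to the residue target. -/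
structure Stage (R Ω k' : Type u) [CommRing R] [Field Ω] [Algebra R Ω] [Field k'] [Algebra R k'] (π : R) where
  A : Subalgebra R Ω
  ρ : A →ₐ[R] k'
  hfac : ∀ a : A, a ≠ 0 → ∃ (n : ℕ) (u : A), IsUnit u ∧ a = algebraMap R A π ^ n * u

instance : Preorder (Stage R Ω k' π) where
  le P Q := ∃ h : P.A ≤ Q.A, ∀ a, Q.ρ (Subalgebra.inclusion h a) = P.ρ a
  le_refl P := ⟨le_rfl, fun _ => rfl⟩
  le_trans P Q S := fun ⟨h, hh⟩ ⟨h', hh'⟩ => ⟨h.trans h', fun a => (hh' _).trans (hh a)⟩

namespace Stage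

variable (P : Stage R Ω k' π) (hπ0 : π ≠ 0) (hπk : algebraMap R k' π = 0)

include hπk in
theorem rho_unif : P.ρ (algebraMap R P.A π) = 0 := by rw [P.ρ.commutes, hπk]

include hπk in
theorem isUnit_of_rho_ne_zero (a : P.A) (h : P.ρ a ≠ 0) : IsUnit a := by
  obtain ⟨n, u, hu, rfl⟩ := P.hfac a (fun h0 => h (by rw [h0, map_zero]))
  rcases n with _ | n
  · simpa using hu
  · exact absurd (by rw [map_mul, map_pow, P.rho_unif hπk, zero_pow n.succ_ne_zero, zero_mul]) h

include hπk in
theorem not_isUnit_unif : ¬ IsUnit (algebraMap R P.A π) := fun h => by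
  have := h.map P.ρ
  rw [P.rho_unif hπk] at this
  exact not_isUnit_zero this

include hπ0 in
theorem unif_ne_zero : algebraMap R P.A π ≠ 0 := fun h => hπ0 (by
  have h' : algebraMap R Ω π = 0 := congrArg (fun a : P.A => (a : Ω)) h
  exact (FaithfulSMul.algebraMap_eq_zero_iff R Ω).1 h')

include hπ0 hπk in
theorem irreducible_unif : Irreducible (algebraMap R P.A π) := by
  refine ⟨P.not_isUnit_unif hπk, fun a b hab => ?_⟩
  have h0 := P.unif_ne_zero hπ0
  obtain ⟨m, u, hu, rfl⟩ := P.hfac a (fun h => h0 (by rw [hab, h, zero_mul]))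
  obtain ⟨n, v, hv, rfl⟩ := P.hfac b (fun h => h0 (by rw [hab, h, mul_zero]))
  rcases m with _ | m
  · exact Or.inl (by simpa using hu)
  rcases n with _ | n
  · exact Or.inr (by simpa using hv)
  exfalso
  apply P.not_isUnit_unif hπk
  refine IsUnit.of_mul_eq_one (algebraMap R P.A π ^ (m + n) * (u * v)) ?_
  refine mul_left_cancel₀ h0 ?_
  rw [mul_one]
  conv_rhs => rw [hab]
  ring

include hπ0 hπk in
theorem isDVR : IsDiscreteValuationRing P.A :=
  IsDiscreteValuationRing.ofHasUnitMulPowIrreducibleFactorization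
    ⟨algebraMap R P.A π, P.irreducible_unif hπ0 hπk, fun {x} hx => by
      obtain ⟨n, u, hu, rfl⟩ := P.hfac x hx
      exact ⟨n, hu.unit, rfl⟩⟩

include hπ0 hπk in
theorem mem_maximal_iff (a : P.A) : (haveI := P.isDVR hπ0 hπk; a ∈ maximalIdeal P.A) ↔ P.ρ a = 0 := by
  haveI := P.isDVR hπ0 hπk
  rw [mem_maximalIdeal]
  refine ⟨fun h => by_contra fun h' => h (P.isUnit_of_rho_ne_zero hπk a h'), fun h hu => ?_⟩
  have := hu.map P.ρ
  rw [h] at this
  exact not_isUnit_zero this

/-- The smallest stage. -/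
noncomputable def bot (hfacR : ∀ r : R, r ≠ 0 → ∃ (n : ℕ) (u : R), IsUnit u ∧ r = π ^ n * u) : Stage R Ω k' π where
  A := ⊥
  ρ := (Algebra.ofId R k').comp (Algebra.botEquivOfInjective (FaithfulSMul.algebraMap_injective R Ω)).toAlgHom
  hfac a ha := by
    obtain ⟨r, hr⟩ := Algebra.mem_bot.1 a.2
    have ha' : a = algebraMap R (⊥ : Subalgebra R Ω) r := Subtype.ext hr.symm
    subst ha'
    obtain ⟨n, u, hu, rfl⟩ := hfacR r (fun h => ha (by rw [h, map_zero]))
    exact ⟨n, algebraMap R _ u, hu.map _, by rw [map_mul, map_pow]⟩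

theorem exists_upperBound (c : Set (Stage R Ω k' π)) (hc : IsChain (· ≤ ·) c) (hne : c.Nonempty) :
    ∃ U, ∀ P ∈ c, P ≤ U := by
  classical
  haveI : Nonempty c := hne.to_subtype
  let K : c → Subalgebra R Ω := fun P => P.1.A
  have hdir : Directed (· ≤ ·) K := fun P Q => by
    rcases hc.total P.2 Q.2 with ⟨h, -⟩ | ⟨h, -⟩
    · exact ⟨Q, h, le_rfl⟩
    · exact ⟨P, le_rfl, h⟩
  have hcomp : ∀ (i j : c) (h : K i ≤ K j), i.1.ρ = j.1.ρ.comp (Subalgebra.inclusion h) := fun i j h => by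
    rcases hc.total i.2 j.2 with ⟨h', hh'⟩ | ⟨h', hh'⟩
    · exact AlgHom.ext fun a => (hh' a).symm
    · exact AlgHom.ext fun a => hh' (Subalgebra.inclusion h a)
  let ρU : ↥(iSup K) →ₐ[R] k' := Subalgebra.iSupLift K hdir (fun i => i.1.ρ) hcomp (iSup K) le_rfl
  refine ⟨⟨iSup K, ρU, fun a ha => ?_⟩, fun P hP => ⟨le_iSup K ⟨P, hP⟩, fun a => ?_⟩⟩
  · have hmem : (a : Ω) ∈ ((iSup K : Subalgebra R Ω) : Set Ω) := a.2
    rw [Subalgebra.coe_iSup_of_directed hdir, Set.mem_iUnion] at hmem
    obtain ⟨i, hi⟩ := hmem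
    obtain ⟨n, u, hu, hau⟩ := i.1.hfac ⟨a, hi⟩ (fun h => ha (Subtype.ext (congrArg (fun x : i.1.A => (x : Ω)) h)))
    refine ⟨n, Subalgebra.inclusion (le_iSup K i) u, hu.map _, Subtype.ext ?_⟩
    have := congrArg (fun x : i.1.A => (x : Ω)) hau
    simpa using this
  · exact Subalgebra.iSupLift_inclusion (K := K) (dir := hdir) (hf := hcomp) (i := (⟨P, hP⟩ : c)) a _

include hπ0 hπk in
/-- A stage whose residue map misses an algebraic element can be enlarged. -/
theorem exists_gt [IsSepClosed Ω] (α : k') (hα : α ∉ P.ρ.range) (halg : ∃ p : R[X], p.map (algebraMap R k') ≠ 0 ∧ aeval α p = 0) :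
    ∃ Q, P ≤ Q ∧ α ∈ Q.ρ.range := by
  classical
  haveI := P.isDVR hπ0 hπk
  let ρ₀ : P.A →+* k' := P.ρ.toRingHom
  let F : Subfield k' :=
    { ρ₀.range with
      inv_mem' := by
        rintro _ ⟨a, rfl⟩
        by_cases h : ρ₀ a = 0
        · exact ⟨0, by rw [map_zero, h, inv_zero]⟩
        · obtain ⟨u, rfl⟩ := P.isUnit_of_rho_ne_zero hπk a h
          exact ⟨((u⁻¹ : P.Aˣ) : P.A), map_units_inv ρ₀ u⟩ }
  let ρF : P.A →+* F := ρ₀.codRestrict F fun a => ⟨a, rfl⟩
  have hρF : Function.Surjective ρF := by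
    rintro ⟨x, a, rfl⟩; exact ⟨a, rfl⟩
  have hint : IsIntegral F α := by
    obtain ⟨p, hpk, hp⟩ := halg
    refine IsAlgebraic.isIntegral ⟨p.map (ρF.comp (algebraMap R P.A)), fun h => hpk ?_, ?_⟩
    · have := congrArg (Polynomial.map (algebraMap F k')) h
      rw [Polynomial.map_map, Polynomial.map_zero] at this
      rw [← this]
      congr 1
      exact RingHom.ext fun r => (P.ρ.commutes r).symm
    · rw [aeval_def, eval₂_map, ← hp, aeval_def]
      congr 1
      exact RingHom.ext fun r => P.ρ.commutes r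
  let g := minpoly F α
  have hgm : g.Monic := minpoly.monic hint
  have hgirr : Irreducible g := minpoly.irreducible hint
  have hdeg : 2 ≤ g.natDegree := (minpoly.two_le_natDegree_iff hint).2 fun ⟨x, hx⟩ => hα (by
    obtain ⟨a, ha⟩ := hρF x
    exact ⟨a, by rw [← hx, ← ha]; rfl⟩)
  -- a lift with nonzero derivative
  obtain ⟨G, hGmap, hGm, hGd⟩ : ∃ G : P.A[X], G.map ρF = g ∧ G.Monic ∧ derivative G ≠ 0 := by
    obtain ⟨G, hG, hGdeg, hGm⟩ := Polynomial.lifts_and_degree_eq_and_monic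
      (Polynomial.mem_lifts_of_surjective hρF g) hgm
    by_cases hd : derivative G = 0
    · refine ⟨G + C (algebraMap R P.A π) * X, ?_, ?_, ?_⟩
      · rw [Polynomial.map_add, Polynomial.map_mul, map_C, show ρF (algebraMap R P.A π) = 0 from
          Subtype.ext (P.rho_unif hπk), C_0, zero_mul, add_zero, hG]
      · refine hGm.add_of_left ((degree_C_mul_X_le _).trans_lt ?_)
        rw [hGdeg, degree_eq_natDegree hgm.ne_zero]
        exact_mod_cast hdeg
      · rw [derivative_add, hd, zero_add, derivative_C_mul, derivative_X, mul_one]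
        simpa using P.unif_ne_zero hπ0
    · exact ⟨G, hG, hGm, hd⟩
  have hGirr : Irreducible G := Polynomial.Monic.irreducible_of_irreducible_map ρF G hGm (hGmap ▸ hgirr)
  let L := FractionRing P.A
  letI : Algebra L Ω := (IsFractionRing.lift (K := L) (g := algebraMap P.A Ω) Subtype.val_injective).toAlgebra
  haveI : IsScalarTower P.A L Ω := IsScalarTower.of_algebraMap_eq fun a => (IsFractionRing.lift_algebraMap _ a).symm
  let Gf := G.map (algebraMap P.A L)
  have hGLirr : Irreducible Gf := (Polynomial.Monic.irreducible_iff_irreducible_map_fraction_map hGm).1 hGirr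
  have hGLsep : Gf.Separable := by
    rw [separable_iff_derivative_ne_zero hGLirr, derivative_map]
    exact (Polynomial.map_ne_zero_iff (IsFractionRing.injective P.A L)).2 hGd
  obtain ⟨β, hβ⟩ := IsSepClosed.exists_aeval_eq_zero (k := L) Ω Gf hGLirr.degree_pos.ne' hGLsep
  have hβA : aeval β G = 0 := by rwa [aeval_map_algebraMap] at hβ
  have hdvd : ∀ p : P.A[X], aeval β p = 0 → G ∣ p := fun p hp => by
    refine (Polynomial.map_dvd_map _ (IsFractionRing.injective P.A L) hGm).1 ?_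
    have h1 : minpoly L β = Gf := (minpoly.eq_of_irreducible_of_monic hGLirr hβ (hGm.map _)).symm
    show Gf ∣ _
    rw [← h1]
    exact minpoly.dvd L β (by rw [aeval_map_algebraMap]; exact hp)
  -- the bigger ring
  let e : AdjoinRoot G →ₐ[P.A] Ω := AdjoinRoot.liftAlgHom G (Algebra.ofId P.A Ω) β hβA
  have he : ∀ p, e (AdjoinRoot.mk G p) = aeval β p := fun p => AdjoinRoot.liftAlgHom_mk G _ _ hβA p
  have hei : Function.Injective e := (injective_iff_map_eq_zero _).2 fun x hx => by
    obtain ⟨p, rfl⟩ := AdjoinRoot.mk_surjective x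
    exact AdjoinRoot.mk_eq_zero.2 (hdvd p (by rw [← he]; exact hx))
  let eR : AdjoinRoot G →ₐ[R] Ω := e.restrictScalars R
  have hρroot : G.eval₂ ρ₀ α = 0 := by
    have : ρ₀ = (algebraMap F k').comp ρF := rfl
    rw [this, ← eval₂_map, hGmap]
    exact minpoly.aeval F α
  let ρ' : AdjoinRoot G →ₐ[R] k' :=
    { AdjoinRoot.lift ρ₀ α hρroot with
      commutes' := fun r => by
        show AdjoinRoot.lift ρ₀ α hρroot (algebraMap R (AdjoinRoot G) r) = _
        rw [IsScalarTower.algebraMap_apply R P.A (AdjoinRoot G), AdjoinRoot.algebraMap_eq, AdjoinRoot.lift_of]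
        exact P.ρ.commutes r }
  let eA : AdjoinRoot G ≃ₐ[R] eR.range := AlgEquiv.ofInjective eR hei
  haveI : Module.Finite P.A (AdjoinRoot G) := hGm.finite_adjoinRoot
  have hunit : ∀ q : P.A[X], q.map ρF ≠ 0 → q.degree < G.degree → IsUnit (AdjoinRoot.mk G q) := by
    intro q hq hlt
    have hndvd : ¬ g ∣ q.map ρF := fun h => by
      have h1 := degree_le_of_dvd h hq
      rw [← hGmap, hGm.degree_map ρF] at h1
      exact (h1.trans degree_map_le).not_gt hlt
    obtain ⟨a, b, hab⟩ := ((hgirr.coprime_iff_not_dvd).2 hndvd)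
    obtain ⟨u, rfl⟩ := Polynomial.map_surjective ρF hρF b
    obtain ⟨v, rfl⟩ := Polynomial.map_surjective ρF hρF a
    by_contra hnu
    obtain ⟨M, hM, hqM⟩ := exists_max_ideal_of_mem_nonunits hnu
    haveI := hM
    haveI : (M.comap (algebraMap P.A (AdjoinRoot G))).IsMaximal := Ideal.isMaximal_comap_of_isIntegral_of_isMaximal M
    have hmM : M.comap (algebraMap P.A (AdjoinRoot G)) = maximalIdeal P.A := eq_maximalIdeal ‹_›
    have hker : RingHom.ker ρF ≤ M.comap (algebraMap P.A (AdjoinRoot G)) := fun c hc => by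
      rw [hmM, P.mem_maximal_iff hπ0 hπk]
      exact congrArg Subtype.val hc
    have hmem : v * G + u * q - 1 ∈ (RingHom.ker ρF).map (C : P.A →+* P.A[X]) := by
      rw [← Polynomial.ker_mapRingHom, RingHom.mem_ker, Polynomial.coe_mapRingHom, Polynomial.map_sub,
        Polynomial.map_add, Polynomial.map_mul, Polynomial.map_mul, Polynomial.map_one, hGmap, hab, sub_self]
    have hle : (RingHom.ker ρF).map (C : P.A →+* P.A[X]) ≤ M.comap (AdjoinRoot.mk G) :=
      Ideal.map_le_iff_le_comap.2 fun c hc => hker hc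
    have h1 : AdjoinRoot.mk G (v * G + u * q - 1) ∈ M := hle hmem
    rw [map_sub, map_add, map_mul, map_mul, AdjoinRoot.mk_self, mul_zero, zero_add, map_one] at h1
    refine hM.ne_top ((Ideal.eq_top_iff_one M).2 ?_)
    have := M.sub_mem (M.mul_mem_left (AdjoinRoot.mk G u) hqM) h1
    rwa [sub_sub_cancel] at this
  have hfac' : ∀ (n : ℕ) (p : P.A[X]) (i : ℕ) (u : P.A), IsUnit u → p.coeff i = algebraMap R P.A π ^ n * u →
      p.degree < G.degree → ∃ (m : ℕ) (w : AdjoinRoot G), IsUnit w ∧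
        AdjoinRoot.mk G p = algebraMap R (AdjoinRoot G) π ^ m * w := by
    intro n
    induction n with
    | zero =>
      intro p i u hu hc hlt
      refine ⟨0, AdjoinRoot.mk G p, hunit p (fun h => ?_) hlt, by rw [pow_zero, one_mul]⟩
      have := congrArg (fun q => q.coeff i) h
      simp only [coeff_map, coeff_zero, hc, pow_zero, one_mul] at this
      exact (hu.map ρF).ne_zero this
    | succ n ih =>
      intro p i u hu hc hlt
      by_cases h : p.map ρF = 0
      · obtain ⟨p₁, rfl⟩ : C (algebraMap R P.A π) ∣ p := by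
          rw [C_dvd_iff_dvd_coeff]
          intro j
          have h1 : P.ρ (p.coeff j) = 0 := by
            have := congrArg (fun q => q.coeff j) h
            simp only [coeff_map, coeff_zero] at this
            exact congrArg Subtype.val this
          have h2 := (P.mem_maximal_iff hπ0 hπk _).2 h1
          rwa [(P.irreducible_unif hπ0 hπk).maximalIdeal_eq, Ideal.mem_span_singleton] at h2
        rw [coeff_C_mul, pow_succ', mul_assoc] at hc
        rw [degree_C_mul (P.unif_ne_zero hπ0)] at hlt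
        obtain ⟨m, w, hw, hpw⟩ := ih p₁ i u hu (mul_left_cancel₀ (P.unif_ne_zero hπ0) hc) hlt
        refine ⟨m + 1, w, hw, ?_⟩
        rw [map_mul, hpw, AdjoinRoot.mk_C, pow_succ', mul_assoc,
          IsScalarTower.algebraMap_apply R P.A (AdjoinRoot G), AdjoinRoot.algebraMap_eq]
      · exact ⟨0, AdjoinRoot.mk G p, hunit p h hlt, by rw [pow_zero, one_mul]⟩
  refine ⟨⟨eR.range, ρ'.comp eA.symm.toAlgHom, fun a ha => ?_⟩, ⟨?_, ?_⟩, ?_⟩
  · obtain ⟨x, rfl⟩ := eA.surjective a
    obtain ⟨p₀, rfl⟩ := AdjoinRoot.mk_surjective x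
    have hp : AdjoinRoot.mk G p₀ = AdjoinRoot.mk G (p₀ %ₘ G) := by
      rw [AdjoinRoot.mk_eq_mk]
      exact ⟨p₀ /ₘ G, by linear_combination -(modByMonic_add_div p₀ G)⟩
    rw [hp] at ha ⊢
    set p := p₀ %ₘ G
    have hp0 : p ≠ 0 := fun h => ha (by rw [h, map_zero, map_zero])
    obtain ⟨i, hi⟩ : ∃ i, p.coeff i ≠ 0 := ⟨p.natDegree, by
      rw [coeff_natDegree]; exact leadingCoeff_ne_zero.2 hp0⟩
    obtain ⟨n, u, hu, hiu⟩ := P.hfac _ hi
    obtain ⟨m, w, hw, hpw⟩ := hfac' n p i u hu hiu (degree_modByMonic_lt _ hGm)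
    exact ⟨m, eA w, hw.map eA, by rw [hpw, map_mul, map_pow, AlgEquiv.commutes]⟩
  · intro a ha
    exact ⟨AdjoinRoot.of G ⟨a, ha⟩, by
      show e (AdjoinRoot.of G ⟨a, ha⟩) = a
      rw [← AdjoinRoot.algebraMap_eq, e.commutes]; rfl⟩
  · intro a
    show ρ' (eA.symm ⟨(a : Ω), _⟩) = P.ρ a
    have : eA.symm ⟨(a : Ω), ⟨AdjoinRoot.of G a, by
        show e (AdjoinRoot.of G a) = a
        rw [← AdjoinRoot.algebraMap_eq, e.commutes]; rfl⟩⟩ = AdjoinRoot.of G a := by
      rw [AlgEquiv.symm_apply_eq]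
      refine Subtype.ext ?_
      show (a : Ω) = e (AdjoinRoot.of G a)
      rw [← AdjoinRoot.algebraMap_eq, e.commutes]; rfl
    rw [this]
    exact AdjoinRoot.lift_of hρroot
  · exact ⟨eA (AdjoinRoot.root G), by
      show ρ' (eA.symm (eA (AdjoinRoot.root G))) = α
      rw [AlgEquiv.symm_apply_apply]
      exact AdjoinRoot.lift_root hρroot⟩

end Stage

end Groth.Agent.Gonfl7
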